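import Cfsg.Agent.H816.IMEig
import Cfsg.Agent.PermChar.SymAlt

/-!
# The values of the constituent belonging to a spherical function (helper740)

`exists_degree_rat` : as `H816.IMEig.Col.exists_degree`, with rational values when the spherical
function is rational.
-/

set_option autoImplicit false

namespace Cfsg.Agent.H740.K4.Scheme

open Cfsg Cfsg.Agent.Characters.Core Module Cfsg.Agent.H816.IMEig Cfsg.Agent.H816.IMEig.Col
open scoped BigOperators

universe u v

variable {G : Type u} [Group G] {X : Type v} [MulAction G X] {ι : Type} [Fintype ι] [DecidableEq ι]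
variable {c : X → X → ι} {o : ι}

section

variable [Fintype X] [DecidableEq X] {x₀ z₀ : X} {t : ι → ι → ℕ} {θ : ℂ} {ω : ι → ℂ}

theorem trace_prep_EE (h : Col G X ι c o) (g : G) :
    LinearMap.trace ℂ (X → ℂ) (prep G X g * EE c ω) = ∑ x : X, ω (c x (g • x)) := by
  rw [LinearMap.trace_eq_matrix_trace ℂ (Pi.basisFun ℂ X), Matrix.trace]
  refine Finset.sum_congr rfl fun x _ => ?_
  rw [Matrix.diag_apply, LinearMap.toMatrix_apply, Pi.basisFun_apply, Module.End.mul_apply, EE_single, h.prep_ee,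
    Pi.basisFun_repr]
  rfl

/-- The value of the character. -/
theorem character_eq [Finite G] (h : Col G X ι c o) (ht : ∀ u w, tt c x₀ z₀ u w = t u w)
    (hE : Eig (c x₀ z₀) o t θ ω) (hS : SS t ω ≠ 0) (g : G) :
    (h.sub ω).toRepresentation.character g = (SS t ω)⁻¹ * ∑ x : X, ω (c x (g • x)) := by
  have hmem : ∀ x, (prep G X g * ((SS t ω)⁻¹ • EE c ω)) x ∈ WW c ω := by
    intro x
    rw [Module.End.mul_apply]
    exact (h.sub ω).apply_mem_toSubmodule g (Submodule.smul_mem _ _ (EE_mem x))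
  have h1 : (h.sub ω).toRepresentation g =
      (prep G X g * ((SS t ω)⁻¹ • EE c ω)).restrict (fun v _ => hmem v) := by
    apply LinearMap.ext
    intro w
    apply Subtype.ext
    show prep G X g (w : X → ℂ) = prep G X g (((SS t ω)⁻¹ • EE c ω) (w : X → ℂ))
    congr 1
    rw [LinearMap.smul_apply, h.EE_of_mem ht hE w.2, smul_smul, inv_mul_cancel₀ hS, one_smul]
  show LinearMap.trace ℂ (WW c ω) ((h.sub ω).toRepresentation g) = _
  rw [h1]
  have h2 := Cfsg.Agent.PermChar.SymAlt.trace_restrict (prep G X g * ((SS t ω)⁻¹ • EE c ω)) (WW c ω) hmem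
  refine h2.trans ?_
  rw [mul_smul_comm, map_smul, trace_prep_EE h, smul_eq_mul]

end

/-- **The constituent belonging to a rational spherical function.** -/
theorem exists_degree_rat [Finite G] [Finite X] (h : Col G X ι c o) {x₀ z₀ : X} {t : ι → ι → ℕ} {θ : ℂ}
    {ω : ι → ℂ} (ht : ∀ u w, Nat.card {y // c x₀ y = u ∧ c z₀ y = w} = t u w) (hE : Eig (c x₀ z₀) o t θ ω)
    (hq : ∀ u, ∃ q : ℚ, ω u = q)
    {f : ℕ} (hf : (f : ℂ) * ∑ u, ((∑ w, t u w : ℕ) : ℂ) * ω u ^ 2 = (Nat.card X : ℂ)) :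
    ∃ χ : G → ℂ, IsIrrCharacter G χ ∧ χ 1 = f ∧ ∀ g, ∃ q : ℚ, χ g = q := by
  classical
  have := Fintype.ofFinite X
  have hX : (Nat.card X : ℂ) ≠ 0 := by
    have : Nonempty X := ⟨x₀⟩
    exact_mod_cast (Nat.card_pos (α := X)).ne'
  have hS : SS t ω ≠ 0 := by
    intro h0
    unfold SS at h0
    rw [h0, mul_zero] at hf
    exact hX hf.symm
  refine ⟨_, isIrrCharacter_of_rep _ (h.irr ht hE), ?_, ?_⟩
  · rw [Representation.char_one]
    have h1 := h.finrank_mul ht hE hS
    rw [← Nat.card_eq_fintype_card, ← hf] at h1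
    exact mul_right_cancel₀ hS h1
  · choose q hq using hq
    intro g
    rw [character_eq h ht hE hS g]
    refine ⟨(∑ u, ((∑ w, t u w : ℕ) : ℚ) * q u ^ 2)⁻¹ * ∑ x : X, q (c x (g • x)), ?_⟩
    unfold SS
    push_cast
    congr 1
    · congr 1
      refine Finset.sum_congr rfl fun u _ => ?_
      rw [hq]
    · exact Finset.sum_congr rfl fun x _ => hq _

end Cfsg.Agent.H740.K4.Scheme
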