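import Cfsg.Agent.H740.K4.Four
import Cfsg.Agent.H740.K4.Equiv
import Cfsg.Agent.H740.K4.Scheme
import Cfsg.Agent.H816.IMM

/-!
# S4547, S4947: the Monster (helper740)

The constituents of degrees `196883`, `36173193327999`, `49609712911192813665` of the permutation character on the
axes are rational valued and of `59`-defect zero; with the trivial character their values at an element of order
`59` have the odd sum `1`, so there is a fifth odd degree character fixed by the cubing automorphism in the
principal 2-block.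
-/

set_option autoImplicit false
set_option maxRecDepth 100000

namespace Cfsg.Agent.H740.K4.M

open Cfsg Cfsg.Agent.MonsterX.InstData
open Cfsg.Agent.H816.MEigL Cfsg.Agent.H816.MSch Cfsg.Agent.H740.K4

universe u

/-- A rational constituent. -/
theorem exists_rat {P : Fin 9 → Fin 9 → ℤ} {θ D : ℤ} {ω : Fin 9 → ℤ} {R : Fin 9 → Fin 9 → ℤ} {r : Fin 9 → ℤ} {f : ℕ}
    (h : Dat t k P 2 θ D ω R r 97239461142009186000 f) :
    ∃ χ : ↥M.G → ℂ, IsIrrCharacter ↥M.G χ ∧ χ 1 = f ∧ ∀ g, ∃ q : ℚ, χ g = q := by
  have := finite_G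
  have hE := h.toEig
  have hd := h.toDeg
  rw [← c_b1] at hE
  refine Scheme.exists_degree_rat isCol tt_eq hE (fun u => ⟨(ω u : ℚ) / (D : ℚ), by push_cast; rfl⟩) ?_
  rw [card_XT]
  exact hd

/-- **The Monster.** -/
theorem good5_model : H601.K4.Good5 ↥M.G := by
  have := finite_G
  have hcard : Nat.card ↥M.G = 808017424794512875886459904961710757005754368000000000 :=
    Cfsg.Agent.MonsterP.EquivOf.isM_model.2
  obtain ⟨a, ha, ha1, haq⟩ := exists_rat Cfsg.Agent.H816.MDeg.dat_196883
  obtain ⟨b, hb, hb1, hbq⟩ := exists_rat Cfsg.Agent.H816.MDeg.dat_36173193327999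
  obtain ⟨c, hc, hc1, hcq⟩ := exists_rat Cfsg.Agent.H816.MDeg.dat_49609712911192813665
  refine good5_of_defect_zero (p := 59) (n := 1) (χ := ![a, b, c])
    (d := ![196883, 36173193327999, 49609712911192813665]) ?_ (by norm_num) (by decide) one_ne_zero ?_ ?_ ?_ ?_ ?_
    (by decide) (by decide) (by decide) (by decide)
  · rw [hcard]
    decide
  · rw [hcard]
    decide
  · rw [hcard]
    decide
  · intro i
    fin_cases i <;> assumption
  · intro i
    fin_cases i <;> assumption
  · intro i
    fin_cases i <;> assumption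

/-- **Row (A) of S4547 for the Monster.** -/
theorem good5_m {S : Type u} [Group S] (h : Spor.IsoM S) : H601.K4.Good5 S := by
  obtain ⟨e⟩ := Cfsg.Agent.H816.IMM.exists_equiv h
  exact good5_of_equiv e good5_model

end Cfsg.Agent.H740.K4.M
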