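import Cfsg.Agent.PermChar.SymAlt
import Cfsg.Agent.H419.MinDeg
import Cfsg.Agent.S0895

/-!
# The alternating square of an absolutely irreducible real representation (helper740)

* `inner_alt` : the inner product of the alternating square with a character, from the antisymmetric
  equivariant maps;
* `alt_one` : the alternating square of a real character of odd degree does not contain the trivial character;
* `alt_self` : if every equivariant product on a real representation is commutative, its alternating square does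
  not contain it.
-/

set_option autoImplicit false

open scoped ComplexConjugate TensorProduct
open Cfsg Representation Module
open Cfsg.Agent.PermChar.TensorSquare Cfsg.Agent.H419.MinDeg

namespace Cfsg.Agent.H740.K4.Wedge

universe u

variable {G : Type u} [Group G]

/-- the alternating square of a character -/
noncomputable def alt (χ : G → ℂ) : G → ℂ := fun g => (χ g ^ 2 - χ (g * g)) / 2

theorem isCharacter_alt {χ : G → ℂ} (hχ : IsCharacter G χ) : IsCharacter G (alt χ) :=
  Cfsg.Agent.PermChar.SymAlt.isCharacter_altSq hχ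

theorem inner_alt [Fintype G] {V W : Type*} [AddCommGroup V] [Module ℂ V] [FiniteDimensional ℂ V]
    [AddCommGroup W] [Module ℂ W] [FiniteDimensional ℂ W] (ρ : Representation ℂ G V) (σ : Representation ℂ G W)
    (h : ∀ T : (V ⊗[ℂ] V) →ₗ[ℂ] W, (∀ g x, T (TensorProduct.map (ρ g) (ρ g) x) = σ g (T x)) →
      (∀ x, T (swap V x) = - T x) → T = 0) : classInner (alt ρ.character) σ.character = 0 := by
  have h1 := finrank_eq ρ σ 1
  have h2 : finrank ℂ (IntertwiningMap (rep2 ρ) (repSign σ 1)) = 0 := by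
    have : Subsingleton (IntertwiningMap (rep2 ρ) (repSign σ 1)) := by
      refine ⟨fun T T' => ?_⟩
      have key : ∀ S : IntertwiningMap (rep2 ρ) (repSign σ 1), S.toLinearMap = 0 := by
        intro S
        apply h
        · intro g x
          have h3 := S.isIntertwining (rep2 ρ) (repSign σ 1) (g, 1) x
          have h4 : (rep2 ρ) (g, 1) x = TensorProduct.map (ρ g) (ρ g) x := by
            show (TensorProduct.map (ρ g) (ρ g) * (if (1 : ℤˣ) = 1 then 1 else swap V)) x = _
            rw [if_pos rfl, mul_one]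
          have h5 : (repSign σ 1) (g, 1) (S x) = σ g (S x) := by
            show ((((1 : ℤˣ) : ℤ) : ℂ) ^ 1 • σ g) (S x) = _
            simp
          rw [h4, h5] at h3
          exact h3
        · intro x
          have h3 := S.isIntertwining (rep2 ρ) (repSign σ 1) (1, -1) x
          have h4 : (rep2 ρ) (1, -1) x = swap V x := by
            show (TensorProduct.map (ρ 1) (ρ 1) * (if (-1 : ℤˣ) = 1 then 1 else swap V)) x = _
            rw [if_neg (by decide), map_one, TensorProduct.map_one, one_mul]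
          have h5 : (repSign σ 1) (1, -1) (S x) = - S x := by
            show ((((-1 : ℤˣ) : ℤ) : ℂ) ^ 1 • σ 1) (S x) = _
            simp
          rw [h4, h5] at h3
          exact h3
      have h3 : T.toLinearMap = T'.toLinearMap := by rw [key, key]
      apply DFunLike.ext
      intro x
      exact LinearMap.congr_fun h3 x
    exact finrank_zero_of_subsingleton
  rw [h2, Nat.cast_zero, zero_mul] at h1
  have h3 : ∑ g : G, alt ρ.character g * conj (σ.character g) = 2⁻¹ * conj
      (∑ g : G, σ.character g * conj (ρ.character g ^ 2 + (-1) ^ 1 * ρ.character (g * g))) := by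
    rw [map_sum, Finset.mul_sum]
    refine Finset.sum_congr rfl fun g _ => ?_
    rw [map_mul, Complex.conj_conj]
    unfold alt
    ring
  rw [Cfsg.Agent.Characters.Core.classInner_def, h3, ← h1, map_zero, mul_zero, mul_zero]

/-- **No trivial constituent.** -/
theorem alt_one [Fintype G] {χ : G → ℂ} (hχ : IsIrrCharacter G χ) (hr : ∀ g, (χ g).im = 0)
    (hfs : (Nat.card G : ℂ)⁻¹ * ∑ g : G, χ (g * g) = 1) : classInner (alt χ) (fun _ : G => (1 : ℂ)) = 0 := by
  have h1 := Cfsg.Agent.Characters.Core.classInner_irr_self hχ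
  rw [Cfsg.Agent.Characters.Core.classInner_def] at h1 ⊢
  have h2 : ∑ g : G, alt χ g * conj (1 : ℂ) = 2⁻¹ * (∑ g : G, χ g * conj (χ g) - ∑ g : G, χ (g * g)) := by
    rw [← Finset.sum_sub_distrib, Finset.mul_sum]
    refine Finset.sum_congr rfl fun g _ => ?_
    rw [Complex.conj_eq_iff_im.2 (hr g), map_one]
    unfold alt
    ring
  rw [h2, mul_left_comm, mul_sub, h1, hfs, sub_self, mul_zero]

section real

variable {n : ℕ}

/-- a real vector as a complex one -/
def cu (u : Fin n → ℝ) : Fin n → ℂ := fun i => (u i : ℂ)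

theorem cplx_apply (ρ : Representation ℝ G (Fin n → ℝ)) (g : G) (w : Fin n → ℂ) (i : Fin n) :
    cplx ρ g w i = ∑ j, ((LinearMap.toMatrix' (ρ g) i j : ℝ) : ℂ) * w j := by
  show Matrix.toLin' ((LinearMap.toMatrix' (ρ g)).map (algebraMap ℝ ℂ)) w i = _
  rw [Matrix.toLin'_apply]
  rfl

theorem real_apply (ρ : Representation ℝ G (Fin n → ℝ)) (g : G) (u : Fin n → ℝ) (i : Fin n) :
    ρ g u i = ∑ j, LinearMap.toMatrix' (ρ g) i j * u j := by
  have h1 : ρ g u = Matrix.toLin' (LinearMap.toMatrix' (ρ g)) u := by rw [Matrix.toLin'_toMatrix']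
  rw [h1, Matrix.toLin'_apply]
  rfl

theorem cplx_cu (ρ : Representation ℝ G (Fin n → ℝ)) (g : G) (u : Fin n → ℝ) : cplx ρ g (cu u) = cu (ρ g u) := by
  funext i
  rw [cplx_apply]
  show _ = ((ρ g u i : ℝ) : ℂ)
  rw [real_apply]
  push_cast
  rfl

theorem re_cplx (ρ : Representation ℝ G (Fin n → ℝ)) (g : G) (w : Fin n → ℂ) :
    (fun i => (cplx ρ g w i).re) = ρ g (fun i => (w i).re) := by
  funext i
  rw [real_apply, cplx_apply, Complex.re_sum]
  refine Finset.sum_congr rfl fun j _ => ?_
  rw [Complex.re_ofReal_mul]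

theorem im_cplx (ρ : Representation ℝ G (Fin n → ℝ)) (g : G) (w : Fin n → ℂ) :
    (fun i => (cplx ρ g w i).im) = ρ g (fun i => (w i).im) := by
  funext i
  rw [real_apply, cplx_apply, Complex.im_sum]
  refine Finset.sum_congr rfl fun j _ => ?_
  rw [Complex.im_ofReal_mul]

theorem cu_add (u v : Fin n → ℝ) : cu (u + v) = cu u + cu v := by
  funext i
  show ((u i + v i : ℝ) : ℂ) = (u i : ℂ) + (v i : ℂ)
  push_cast
  rfl

theorem cu_smul (c : ℝ) (u : Fin n → ℝ) : cu (c • u) = (c : ℂ) • cu u := by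
  funext i
  show ((c * u i : ℝ) : ℂ) = (c : ℂ) * (u i : ℂ)
  push_cast
  rfl

theorem eq_cu (w : Fin n → ℂ) : w = cu (fun i => (w i).re) + Complex.I • cu (fun i => (w i).im) := by
  funext i
  show w i = ((w i).re : ℂ) + Complex.I * ((w i).im : ℂ)
  rw [mul_comm]
  exact (Complex.re_add_im (w i)).symm

/-- the real part of an equivariant complex product -/
noncomputable def part (f : ℂ →ₗ[ℝ] ℝ) (T : ((Fin n → ℂ) ⊗[ℂ] (Fin n → ℂ)) →ₗ[ℂ] (Fin n → ℂ)) :
    (Fin n → ℝ) →ₗ[ℝ] (Fin n → ℝ) →ₗ[ℝ] (Fin n → ℝ) :=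
  LinearMap.mk₂ ℝ (fun u v i => f (T (cu u ⊗ₜ[ℂ] cu v) i))
    (fun u u' v => by
      funext i
      rw [cu_add, TensorProduct.add_tmul, map_add]
      exact map_add f _ _)
    (fun c u v => by
      funext i
      rw [cu_smul, ← TensorProduct.smul_tmul', map_smul]
      show f ((c : ℂ) * T (cu u ⊗ₜ[ℂ] cu v) i) = c * f (T (cu u ⊗ₜ[ℂ] cu v) i)
      rw [← Complex.real_smul, map_smul, smul_eq_mul])
    (fun u v v' => by
      funext i
      rw [cu_add, TensorProduct.tmul_add, map_add]
      exact map_add f _ _)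
    (fun c u v => by
      funext i
      rw [cu_smul, TensorProduct.tmul_smul, map_smul]
      show f ((c : ℂ) * T (cu u ⊗ₜ[ℂ] cu v) i) = c * f (T (cu u ⊗ₜ[ℂ] cu v) i)
      rw [← Complex.real_smul, map_smul, smul_eq_mul])

theorem part_apply (f : ℂ →ₗ[ℝ] ℝ) (T : ((Fin n → ℂ) ⊗[ℂ] (Fin n → ℂ)) →ₗ[ℂ] (Fin n → ℂ)) (u v : Fin n → ℝ)
    (i : Fin n) : part f T u v i = f (T (cu u ⊗ₜ[ℂ] cu v) i) := rfl

/-- **No constituent equal to itself.** -/
theorem alt_self [Fintype G] (ρ : Representation ℝ G (Fin n → ℝ))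
    (h : ∀ m : (Fin n → ℝ) →ₗ[ℝ] (Fin n → ℝ) →ₗ[ℝ] (Fin n → ℝ),
      (∀ (g : G) (u v : Fin n → ℝ), m (ρ g u) (ρ g v) = ρ g (m u v)) → ∀ u v, m u v = m v u) :
    classInner (alt (cplx ρ).character) (cplx ρ).character = 0 := by
  apply inner_alt
  intro T hT hs
  have hz : ∀ f : ℂ →ₗ[ℝ] ℝ, (∀ (g : G) (w : Fin n → ℂ), (fun i => f (cplx ρ g w i)) = ρ g (fun i => f (w i))) →
      ∀ u v : Fin n → ℝ, ∀ i, f (T (cu u ⊗ₜ[ℂ] cu v) i) = 0 := by
    intro f hf u v i
    have h1 := h (part f T) (fun g u v => by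
      funext i
      rw [part_apply, ← cplx_cu, ← cplx_cu]
      have h2 := hT g (cu u ⊗ₜ[ℂ] cu v)
      rw [TensorProduct.map_tmul] at h2
      rw [h2]
      have h3 := congrFun (hf g (T (cu u ⊗ₜ[ℂ] cu v))) i
      exact h3) u v
    have h2 := congrFun h1 i
    rw [part_apply, part_apply] at h2
    have h3 := hs (cu u ⊗ₜ[ℂ] cu v)
    rw [swap_tmul] at h3
    rw [h3] at h2
    have h4 : f ((-T (cu u ⊗ₜ[ℂ] cu v)) i) = - f (T (cu u ⊗ₜ[ℂ] cu v) i) := by
      rw [Pi.neg_apply, map_neg]
    rw [h4] at h2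
    linarith
  have hre := hz Complex.reLm (fun g w => re_cplx ρ g w)
  have him := hz Complex.imLm (fun g w => im_cplx ρ g w)
  have h0 : ∀ u v : Fin n → ℝ, T (cu u ⊗ₜ[ℂ] cu v) = 0 := by
    intro u v
    funext i
    exact Complex.ext (hre u v i) (him u v i)
  apply TensorProduct.ext'
  intro x y
  rw [eq_cu x, eq_cu y]
  simp only [TensorProduct.add_tmul, TensorProduct.tmul_add, ← TensorProduct.smul_tmul', TensorProduct.tmul_smul,
    map_add, map_smul, h0, smul_zero, add_zero, LinearMap.zero_apply]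

end real

end Cfsg.Agent.H740.K4.Wedge
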